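import Cfsg.Agent.Lib.Helper19.U6.Vec
import Cfsg.Agent.Lib.Helper19.Sp4.LB
import Cfsg.Agent.Lib.Helper19.Fi22c.DataB

/-! Checks. -/

set_option autoImplicit false
set_option maxRecDepth 1000000

namespace Cfsg.Agent.Lib.Helper19.U6

open Cfsg.Agent.Lib.Helper19.TCS
open Cfsg.Agent.Lib.Helper19.Sp4 (flat K4)
open Cfsg.Agent.Lib.Helper19

theorem okE : loop (fun k => loop (fun j => Nat.beq (TC2.app Fi22c.cB (selW Fi22c.sgw k) (Nat.succ j))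
    (Nat.succ (fB cR k j))) 0 693) 0 9 = true := by decide +kernel

theorem okR_lt : loop (fun k => loop (fun j => Nat.blt (fB cR k j) 693) 0 693) 0 9 = true := by
  decide +kernel

theorem okR0 : ∀ j : Fin 693, fB cR 0 j.1 = j.1 := by decide +kernel

theorem okTree : ∀ j : Fin 693, j.1 = 0 ∨ (fld 12 4095 tPAR j.1 < j.1 ∧ fld 12 4095 tLET j.1 < 9 ∧
    fB cR (fld 12 4095 tLET j.1) (fld 12 4095 tPAR j.1) = j.1) := by decide +kernel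

theorem okFix : ∀ j : Fin 693, j.1 = 0 ∨ ∃ w ∈ ws1, app cR w j.1 ≠ j.1 := by decide +kernel

theorem ptl_lt : ∀ k : Fin 9, selN ptl k.1 < 693 := by decide +kernel

def rels : List (List ℕ) := [[0, 0], [1, 1], [2, 2], [3, 3], [4, 4], [5, 5], [6, 6], [7, 7], [8, 8], [1, 2, 1, 2, 1, 2], [2, 3, 2, 3, 2, 3], [3, 4, 3, 4, 3, 4], [4, 5, 4, 5, 4, 5], [2, 6, 2, 6, 2, 6], [6, 7, 6, 7, 6, 7], [8, 4, 8, 4, 8, 4], [1, 2, 3, 4, 5, 6, 7, 1, 2, 3, 4, 5, 6, 7, 1, 2, 3, 4, 5, 6, 7, 1, 2, 3, 4, 5, 6, 7, 1, 2, 3, 4, 5, 6, 7, 1, 2, 3, 4, 5, 6, 7, 1, 2, 3, 4, 5, 6, 7, 1, 2, 3, 4, 5, 6, 7, 1, 2, 3, 4, 5, 6, 7], [0, 4, 8, 5, 3, 6, 5, 2, 1, 4, 8, 5, 3, 6, 5, 2, 1, 4, 8, 5, 3, 6, 5, 2, 1, 4, 8, 5, 3, 6, 5, 2, 1, 4, 8, 5, 3, 6, 5, 2, 1]]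

def relw : List (List ℕ) := [[0, 0], [2, 2], [3, 3], [4, 4], [5, 5], [6, 6], [7, 7], [8, 8], [0, 1, 2, 3, 4, 7, 0, 1, 2, 3, 4, 7, 0, 1, 2, 3, 4, 7, 0, 1, 2, 3, 4, 7, 0, 1, 2, 3, 4, 7, 0, 1, 2, 3, 4, 7, 0, 1, 2, 3, 4, 7, 0, 1, 2, 3, 4, 7, 0, 1, 2, 3, 4, 7, 0, 1, 2, 3, 4, 7], [2, 3, 2, 3, 2, 3], [3, 4, 3, 4, 3, 4], [4, 5, 4, 5, 4, 5], [5, 6, 5, 6, 5, 6], [3, 7, 3, 7, 3, 7], [7, 8, 7, 8, 7, 8], [0, 1, 2, 3, 4, 7, 0, 1, 2, 3, 4, 7, 0, 1, 2, 3, 4, 7, 0, 1, 2, 3, 4, 7, 0, 1, 2, 3, 4, 7, 5, 0, 1, 2, 3, 4, 7, 0, 1, 2, 3, 4, 7, 0, 1, 2, 3, 4, 7, 0, 1, 2, 3, 4, 7, 0, 1, 2, 3, 4, 7, 5, 0, 1, 2, 3, 4, 7, 0, 1, 2, 3, 4, 7, 0, 1, 2, 3, 4, 7, 0, 1, 2, 3, 4, 7, 0, 1, 2, 3, 4, 7, 5], [2, 3, 4, 5, 6, 7, 8, 2, 3, 4, 5, 6, 7, 8, 2, 3, 4, 5, 6, 7, 8, 2, 3, 4, 5, 6, 7, 8, 2, 3, 4, 5, 6, 7, 8,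 2, 3, 4, 5, 6, 7, 8, 2, 3, 4, 5, 6, 7, 8, 2, 3, 4, 5, 6, 7, 8, 2, 3, 4, 5, 6, 7, 8], [0, 5, 0, 1, 2, 3, 4, 7, 0, 1, 2, 3, 4, 7, 0, 1, 2, 3, 4, 7, 0, 1, 2, 3, 4, 7, 0, 1, 2, 3, 4, 7, 6, 4, 7, 6, 3, 2, 5, 0, 1, 2, 3, 4, 7, 0, 1, 2, 3, 4, 7, 0, 1, 2, 3, 4, 7, 0, 1, 2, 3, 4, 7, 0, 1, 2, 3, 4, 7, 6, 4, 7, 6, 3, 2, 5, 0, 1, 2, 3, 4, 7, 0, 1, 2, 3, 4, 7, 0, 1, 2, 3, 4, 7, 0, 1, 2, 3, 4, 7, 0, 1, 2, 3, 4, 7, 6, 4, 7, 6, 3, 2, 5, 0, 1, 2, 3, 4, 7, 0, 1, 2, 3, 4, 7, 0, 1, 2, 3, 4, 7, 0, 1, 2, 3, 4, 7, 0, 1, 2, 3, 4, 7, 6, 4, 7, 6, 3, 2, 5, 0, 1, 2, 3, 4, 7, 0, 1, 2, 3, 4, 7, 0, 1, 2, 3, 4, 7, 0, 1, 2, 3, 4, 7, 0, 1, 2, 3, 4, 7, 6, 4, 7, 6, 3, 2]]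

theorem relw_eq : rels.map (flat Fi22c.sgw) = relw := by decide +kernel

theorem okRel : ∀ w ∈ relw, loop (fun i => Nat.beq (TC2.app Fi22c.cB w i) i) 0 3510 = true := by
  decide +kernel

theorem relw_lt : ∀ w ∈ relw, ∀ k ∈ w, k < 9 := by decide +kernel

theorem sgw_sel : ∀ w ∈ Fi22c.sgw, ∃ k : Fin 9, selW Fi22c.sgw k.1 = w := by decide +kernel

theorem hJ0 : ∀ w ∈ ws0, ∀ k ∈ w, k < 9 := by decide +kernel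
theorem hs1 : ∀ w ∈ ws1, w ∈ ws0 := by decide +kernel
theorem hs2 : ∀ w ∈ ws2, w ∈ ws1 := by decide +kernel
theorem hs3 : ∀ w ∈ ws3, w ∈ ws2 := by decide +kernel
theorem hs4 : ∀ w ∈ ws4, w ∈ ws3 := by decide +kernel
theorem hf1 : ∀ w ∈ ws1, app cR w 0 = 0 := by decide +kernel
theorem hf2 : ∀ w ∈ ws2, app cR w 1 = 1 := by decide +kernel
theorem hf3 : ∀ w ∈ ws3, app cR w 3 = 3 := by decide +kernel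
theorem hf4 : ∀ w ∈ ws4, app cR w 7 = 7 := by decide +kernel
theorem hl0 : pa0.length = 693 := by decide +kernel
theorem hl1 : pa1.length = 512 := by decide +kernel
theorem hl2 : pa2.length = 135 := by decide +kernel
theorem hl3 : pa3.length = 32 := by decide +kernel
theorem hl4 : pa4.length = 6 := by decide +kernel
theorem hn0 : (pa0.map (fun p => app cR (flat ws0 p) 0)).Nodup := by decide +kernel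
theorem hn1 : (pa1.map (fun p => app cR (flat ws1 p) 1)).Nodup := by decide +kernel
theorem hn2 : (pa2.map (fun p => app cR (flat ws2 p) 3)).Nodup := by decide +kernel
theorem hn3 : (pa3.map (fun p => app cR (flat ws3 p) 7)).Nodup := by decide +kernel
theorem hn4 : (pa4.map (fun p => app cR (flat ws4 p) 57)).Nodup := by decide +kernel

end Cfsg.Agent.Lib.Helper19.U6
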